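import Cfsg.Agent.Lib.KnownA.CosetInv

/-! Coset enumeration certificate for the presented HN. -/

set_option autoImplicit false
set_option maxRecDepth 100000

namespace CfsgLib.InvChar.SporHN.E26

open CfsgLib.InvChar.Coset CfsgLib.KnownA

/-- facts -/
noncomputable def facts : Tr := (.leaf 0x1f000070000510000c0000500000b0000b0000030000300000c0000a40000c0000a0000090000a20000a0000030000000002f000090000800000a000001000000000050000a000013000010000040000000000200000000000000000000c50000b0000b4000010000a500009000095000080000850000100007000006000064000050000550000400004500003000034000020000200000100001500000)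
/-- justifications -/
noncomputable def just : Tr := (.leaf 0x18000140006c000600006400029041000400200018000190001a400380040080002c000600000c00011010b0020020001800017000150001600013000010000f0000a014600080180005c000580004c0000801070010030000b0000a000000000e00010000340100040002400048000200004c0004c00025010b004002000100001400010408300040080003401d800000100009000100000c000000000140c2c00800c0004000044000000001d010b0010030000c0075800000400024000200001c00000000a004000000000000d000004003000c0020002000000800040000020000000000)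
/-- relators -/
def rels : List (List ℕ) := [[2, 2, 2, 2, 2, 2], [0, 0, 2, 0, 0, 3], [1, 3, 0, 2, 1, 3, 0, 2, 1, 3, 0, 2], [1, 2, 2, 0, 2, 2, 2, 1, 2, 2, 0, 2, 2, 2, 1, 2, 2, 0, 2, 2, 2], [0, 2, 0, 2, 0, 2, 0, 2, 0, 2, 0, 2, 0, 2, 0, 2], [0, 2, 0, 2, 2, 2, 0, 2, 0, 2, 2, 2, 0, 2, 0, 2, 2, 2, 0, 2, 0, 2, 2, 2], [4, 4], [4, 0, 4, 0], [4, 2, 1, 3, 3, 1, 3, 1, 3, 4, 2, 0, 2, 0, 2, 2, 0, 3, 1, 1], [4, 3, 1, 3, 1, 3, 3, 3, 4, 2, 2, 2, 0, 2, 0, 2, 0, 3, 1, 3, 1, 3, 3, 3, 4, 2, 2, 2, 0, 2, 0, 2, 0, 3, 1, 3, 1, 3, 3, 3, 4, 2, 2, 2, 0, 2, 0, 2, 0], [5, 5, 5, 5, 5], [1, 5, 0, 5, 5], [6, 3, 5, 2], [4, 5, 4, 5, 4, 5], [0, 0, 0, 0], [0, 4, 0, 4], [0, 0, 0, 4, 1, 4], [0, 0, 2, 0, 0, 3], [0, 0, 2,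 1, 1, 3], [2, 2, 2, 2, 2, 2], [0, 0, 2, 0, 4, 1, 4, 3], [0, 0, 2, 1, 4, 0, 4, 3], [0, 0, 2, 2, 0, 0, 3, 3], [0, 0, 2, 2, 1, 1, 3, 3], [0, 0, 2, 4, 0, 0, 4, 3], [0, 0, 2, 4, 0, 4, 1, 3], [0, 0, 2, 4, 1, 1, 4, 3], [0, 0, 2, 4, 1, 4, 0, 3], [0, 0, 3, 0, 4, 1, 4, 2], [0, 0, 3, 1, 4, 0, 4, 2], [0, 0, 3, 4, 0, 0, 4, 2], [0, 0, 3, 4, 0, 4, 1, 2], [0, 0, 3, 4, 1, 1, 4, 2], [0, 0, 3, 4, 1, 4, 0, 2], [0, 0, 2, 2, 0, 4, 1, 4, 3, 3], [0, 0, 2, 2, 1, 4, 0, 4, 3, 3], [0, 0, 2, 2, 2, 0, 0, 3, 3, 3], [0, 0, 2, 2, 2, 1, 1, 3, 3, 3], [0, 0, 2, 2, 4, 0, 0, 4, 3, 3], [0, 0, 2, 2, 4, 0, 4, 1, 3, 3], [0, 0, 2, 2, 4, 1, 1, 4, 3, 3], [0, 0, 2, 2, 4, 1, 4, 0, 3, 3], [0, 0, 2, 4, 2, 0, 0, 3, 4, 3], [0, 0, 2,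 4, 2, 1, 1, 3, 4, 3], [0, 0, 2, 4, 3, 0, 0, 2, 4, 3], [0, 0, 2, 4, 3, 1, 1, 2, 4, 3], [0, 0, 3, 3, 0, 4, 1, 4, 2, 2], [0, 0, 3, 3, 1, 4, 0, 4, 2, 2], [0, 0, 3, 3, 4, 0, 0, 4, 2, 2], [0, 0, 3, 3, 4, 0, 4, 1, 2, 2], [0, 0, 3, 3, 4, 1, 1, 4, 2, 2], [0, 0, 3, 3, 4, 1, 4, 0, 2, 2], [0, 0, 3, 4, 2, 0, 0, 3, 4, 2], [0, 0, 3, 4, 2, 1, 1, 3, 4, 2], [0, 0, 4, 2, 0, 4, 1, 4, 3, 4], [0, 0, 4, 2, 1, 4, 0, 4, 3, 4], [0, 0, 4, 2, 4, 0, 4, 1, 3, 4], [0, 0, 4, 2, 4, 1, 4, 0, 3, 4], [0, 0, 4, 3, 0, 4, 1, 4, 2, 4], [0, 0, 4, 3, 1, 4, 0, 4, 2, 4], [0, 0, 4, 3, 4, 0, 4, 1, 2, 4], [0, 0, 4, 3, 4, 1, 4, 0, 2, 4], [0, 0, 2, 2, 2, 0, 4, 1, 4, 3, 3, 3], [0, 0, 2, 2, 2, 1, 4, 0, 4, 3, 3, 3], [0, 0, 2, 2, 2, 4,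 0, 4, 1, 3, 3, 3], [0, 0, 2, 2, 2, 4, 1, 4, 0, 3, 3, 3], [0, 0, 2, 2, 4, 2, 0, 0, 3, 4, 3, 3], [0, 0, 2, 2, 4, 2, 1, 1, 3, 4, 3, 3], [0, 0, 2, 2, 4, 3, 0, 0, 2, 4, 3, 3], [0, 0, 2, 2, 4, 3, 1, 1, 2, 4, 3, 3], [0, 0, 2, 4, 2, 0, 4, 1, 4, 3, 4, 3], [0, 0, 2, 4, 2, 1, 4, 0, 4, 3, 4, 3], [0, 0, 2, 4, 2, 2, 0, 0, 3, 3, 4, 3], [0, 0, 2, 4, 2, 2, 1, 1, 3, 3, 4, 3], [0, 0, 2, 4, 2, 4, 0, 0, 4, 3, 4, 3], [0, 0, 2, 4, 2, 4, 0, 4, 1, 3, 4, 3], [0, 0, 2, 4, 2, 4, 1, 1, 4, 3, 4, 3], [0, 0, 2, 4, 2, 4, 1, 4, 0, 3, 4, 3], [0, 0, 2, 4, 3, 0, 4, 1, 4, 2, 4, 3], [0, 0, 2, 4, 3, 1, 4, 0, 4, 2, 4, 3], [0, 0, 2, 4, 3, 4, 0, 0, 4, 2, 4, 3], [0, 0, 2, 4, 3, 4, 0, 4, 1, 2, 4, 3], [0, 0, 2, 4, 3, 4, 1, 1, 4,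 2, 4, 3], [0, 0, 2, 4, 3, 4, 1, 4, 0, 2, 4, 3], [0, 0, 3, 3, 3, 4, 0, 0, 4, 2, 2, 2], [0, 0, 3, 3, 3, 4, 1, 1, 4, 2, 2, 2], [0, 0, 3, 3, 4, 2, 0, 0, 3, 4, 2, 2], [0, 0, 3, 3, 4, 2, 1, 1, 3, 4, 2, 2], [0, 0, 3, 4, 2, 0, 4, 1, 4, 3, 4, 2], [0, 0, 3, 4, 2, 1, 4, 0, 4, 3, 4, 2], [0, 0, 3, 4, 2, 4, 0, 0, 4, 3, 4, 2], [0, 0, 3, 4, 2, 4, 0, 4, 1, 3, 4, 2], [0, 0, 3, 4, 2, 4, 1, 1, 4, 3, 4, 2], [0, 0, 3, 4, 2, 4, 1, 4, 0, 3, 4, 2], [0, 0, 3, 4, 3, 0, 4, 1, 4, 2, 4, 2], [0, 0, 3, 4, 3, 1, 4, 0, 4, 2, 4, 2], [0, 0, 3, 4, 3, 4, 0, 0, 4, 2, 4, 2], [0, 0, 3, 4, 3, 4, 0, 4, 1, 2, 4, 2], [0, 0, 3, 4, 3, 4, 1, 1, 4, 2, 4, 2], [0, 0, 3, 4, 3, 4, 1, 4, 0, 2, 4, 2], [0, 0, 4, 2, 2, 0, 4, 1, 4, 3, 3, 4],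 [0, 0, 4, 2, 2, 1, 4, 0, 4, 3, 3, 4], [0, 0, 4, 2, 2, 4, 0, 4, 1, 3, 3, 4], [0, 0, 4, 2, 2, 4, 1, 4, 0, 3, 3, 4], [0, 0, 4, 3, 3, 0, 4, 1, 4, 2, 2, 4], [0, 0, 4, 3, 3, 1, 4, 0, 4, 2, 2, 4], [0, 0, 4, 3, 3, 4, 0, 4, 1, 2, 2, 4], [0, 0, 4, 3, 3, 4, 1, 4, 0, 2, 2, 4], [0, 2, 0, 3, 0, 2, 0, 3, 0, 2, 1, 3], [0, 2, 0, 3, 0, 2, 0, 3, 1, 2, 0, 3], [0, 2, 0, 3, 0, 2, 1, 3, 1, 2, 1, 3], [0, 2, 0, 3, 1, 2, 0, 3, 1, 2, 1, 3], [0, 2, 0, 3, 1, 2, 1, 3, 0, 2, 1, 3], [0, 2, 0, 3, 4, 2, 0, 3, 0, 2, 4, 3], [0, 2, 0, 3, 4, 2, 1, 3, 1, 2, 4, 3], [0, 2, 0, 4, 3, 0, 4, 2, 1, 4, 3, 4], [0, 2, 0, 4, 3, 0, 4, 2, 4, 0, 3, 4], [0, 2, 0, 4, 3, 1, 4, 2, 0, 4, 3, 4], [0, 2, 0, 4, 3, 1, 4, 2, 4, 1, 3, 4], [0, 2,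 0, 4, 3, 4, 0, 2, 4, 1, 3, 4], [0, 2, 0, 4, 3, 4, 1, 2, 4, 0, 3, 4], [0, 2, 1, 3, 4, 2, 0, 3, 1, 2, 4, 3], [0, 2, 1, 3, 4, 2, 1, 3, 0, 2, 4, 3], [0, 2, 1, 4, 3, 0, 4, 2, 0, 4, 3, 4], [0, 2, 1, 4, 3, 1, 4, 2, 1, 4, 3, 4], [0, 2, 1, 4, 3, 4, 0, 2, 4, 0, 3, 4], [0, 2, 1, 4, 3, 4, 1, 2, 4, 1, 3, 4], [0, 2, 4, 0, 3, 0, 4, 2, 0, 4, 3, 4], [0, 2, 4, 0, 3, 0, 4, 2, 4, 1, 3, 4], [0, 2, 4, 0, 3, 4, 1, 2, 0, 4, 3, 4], [0, 2, 4, 1, 3, 0, 4, 2, 1, 4, 3, 4], [0, 2, 4, 1, 3, 0, 4, 2, 4, 0, 3, 4], [0, 2, 4, 1, 3, 4, 1, 2, 1, 4, 3, 4], [0, 2, 4, 3, 1, 2, 0, 3, 4, 2, 1, 3], [0, 2, 4, 3, 1, 2, 1, 3, 4, 2, 0, 3], [0, 2, 4, 3, 4, 2, 1, 3, 4, 2, 4, 3], [0, 3, 0, 4, 2, 1, 4, 3, 0, 4, 2, 4], [0, 3, 0, 4, 2,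 1, 4, 3, 4, 1, 2, 4], [0, 3, 0, 4, 2, 4, 0, 3, 4, 1, 2, 4], [0, 4, 2, 0, 4, 3, 0, 4, 2, 4, 1, 3], [0, 4, 2, 0, 4, 3, 4, 1, 2, 0, 4, 3], [0, 4, 2, 0, 4, 3, 4, 1, 2, 4, 1, 3], [2, 4, 3, 4, 2, 4, 3, 4, 2, 4, 3, 4], [0, 0, 0, 2, 4, 3, 4, 2, 0, 3, 4, 2, 4, 3], [0, 0, 0, 3, 4, 2, 4, 3, 0, 2, 4, 3, 4, 2], [0, 0, 2, 2, 2, 4, 2, 0, 0, 3, 4, 3, 3, 3], [0, 0, 2, 2, 2, 4, 2, 1, 1, 3, 4, 3, 3, 3], [0, 0, 2, 2, 2, 4, 3, 0, 0, 2, 4, 3, 3, 3], [0, 0, 2, 2, 2, 4, 3, 1, 1, 2, 4, 3, 3, 3], [0, 0, 2, 2, 4, 2, 0, 4, 1, 4, 3, 4, 3, 3], [0, 0, 2, 2, 4, 2, 1, 4, 0, 4, 3, 4, 3, 3], [0, 0, 2, 2, 4, 2, 2, 0, 0, 3, 3, 4, 3, 3], [0, 0, 2, 2, 4, 2, 2, 1, 1, 3, 3, 4, 3, 3], [0, 0, 2, 2, 4, 2, 4, 0, 0, 4, 3, 4, 3,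 3], [0, 0, 2, 2, 4, 2, 4, 0, 4, 1, 3, 4, 3, 3], [0, 0, 2, 2, 4, 2, 4, 1, 1, 4, 3, 4, 3, 3], [0, 0, 2, 2, 4, 2, 4, 1, 4, 0, 3, 4, 3, 3], [0, 0, 2, 2, 4, 3, 0, 4, 1, 4, 2, 4, 3, 3], [0, 0, 2, 2, 4, 3, 1, 4, 0, 4, 2, 4, 3, 3], [0, 0, 2, 2, 4, 3, 3, 0, 0, 2, 2, 4, 3, 3], [0, 0, 2, 2, 4, 3, 3, 1, 1, 2, 2, 4, 3, 3], [0, 0, 2, 2, 4, 3, 4, 0, 0, 4, 2, 4, 3, 3], [0, 0, 2, 2, 4, 3, 4, 0, 4, 1, 2, 4, 3, 3], [0, 0, 2, 2, 4, 3, 4, 1, 1, 4, 2, 4, 3, 3], [0, 0, 2, 2, 4, 3, 4, 1, 4, 0, 2, 4, 3, 3], [0, 0, 2, 4, 2, 2, 0, 4, 1, 4, 3, 3, 4, 3], [0, 0, 2, 4, 2, 2, 1, 4, 0, 4, 3, 3, 4, 3], [0, 0, 2, 4, 2, 2, 2, 0, 0, 3, 3, 3, 4, 3], [0, 0, 2, 4, 2, 2, 2, 1, 1, 3, 3, 3, 4, 3], [0, 0, 2, 4, 2, 2, 4, 0, 0,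 4, 3, 3, 4, 3], [0, 0, 2, 4, 2, 2, 4, 0, 4, 1, 3, 3, 4, 3], [0, 0, 2, 4, 2, 2, 4, 1, 1, 4, 3, 3, 4, 3], [0, 0, 2, 4, 2, 2, 4, 1, 4, 0, 3, 3, 4, 3], [0, 0, 2, 4, 2, 4, 2, 0, 0, 3, 4, 3, 4, 3], [0, 0, 2, 4, 2, 4, 2, 1, 1, 3, 4, 3, 4, 3], [0, 0, 2, 4, 2, 4, 3, 0, 0, 2, 4, 3, 4, 3], [0, 0, 2, 4, 2, 4, 3, 1, 1, 2, 4, 3, 4, 3], [0, 0, 2, 4, 3, 3, 0, 4, 1, 4, 2, 2, 4, 3], [0, 0, 2, 4, 3, 3, 1, 4, 0, 4, 2, 2, 4, 3], [0, 0, 2, 4, 3, 3, 4, 0, 0, 4, 2, 2, 4, 3], [0, 0, 2, 4, 3, 3, 4, 0, 4, 1, 2, 2, 4, 3], [0, 0, 2, 4, 3, 3, 4, 1, 1, 4, 2, 2, 4, 3], [0, 0, 2, 4, 3, 3, 4, 1, 4, 0, 2, 2, 4, 3], [0, 0, 3, 3, 3, 4, 2, 0, 0, 3, 4, 2, 2, 2], [0, 0, 3, 3, 3, 4, 2, 1, 1, 3, 4, 2, 2, 2], [0, 0, 3, 3, 4,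 2, 0, 4, 1, 4, 3, 4, 2, 2], [0, 0, 3, 3, 4, 2, 1, 4, 0, 4, 3, 4, 2, 2], [0, 0, 3, 3, 4, 2, 2, 0, 0, 3, 3, 4, 2, 2], [0, 0, 3, 3, 4, 2, 2, 1, 1, 3, 3, 4, 2, 2], [0, 0, 3, 3, 4, 2, 4, 0, 0, 4, 3, 4, 2, 2], [0, 0, 3, 3, 4, 2, 4, 0, 4, 1, 3, 4, 2, 2], [0, 0, 3, 3, 4, 2, 4, 1, 1, 4, 3, 4, 2, 2], [0, 0, 3, 3, 4, 2, 4, 1, 4, 0, 3, 4, 2, 2], [0, 0, 3, 3, 4, 3, 0, 4, 1, 4, 2, 4, 2, 2], [0, 0, 3, 3, 4, 3, 1, 4, 0, 4, 2, 4, 2, 2], [0, 0, 3, 3, 4, 3, 4, 0, 0, 4, 2, 4, 2, 2], [0, 0, 3, 3, 4, 3, 4, 0, 4, 1, 2, 4, 2, 2], [0, 0, 3, 3, 4, 3, 4, 1, 1, 4, 2, 4, 2, 2], [0, 0, 3, 3, 4, 3, 4, 1, 4, 0, 2, 4, 2, 2], [0, 0, 3, 4, 2, 2, 0, 4, 1, 4, 3, 3, 4, 2], [0, 0, 3, 4, 2, 2, 1, 4, 0, 4, 3, 3, 4, 2], [0,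 0, 3, 4, 2, 2, 4, 0, 0, 4, 3, 3, 4, 2], [0, 0, 3, 4, 2, 2, 4, 0, 4, 1, 3, 3, 4, 2], [0, 0, 3, 4, 2, 2, 4, 1, 1, 4, 3, 3, 4, 2], [0, 0, 3, 4, 2, 2, 4, 1, 4, 0, 3, 3, 4, 2], [0, 0, 3, 4, 2, 4, 2, 0, 0, 3, 4, 3, 4, 2], [0, 0, 3, 4, 2, 4, 2, 1, 1, 3, 4, 3, 4, 2], [0, 0, 3, 4, 3, 3, 0, 4, 1, 4, 2, 2, 4, 2], [0, 0, 3, 4, 3, 3, 1, 4, 0, 4, 2, 2, 4, 2], [0, 0, 3, 4, 3, 3, 4, 0, 0, 4, 2, 2, 4, 2], [0, 0, 3, 4, 3, 3, 4, 0, 4, 1, 2, 2, 4, 2], [0, 0, 3, 4, 3, 3, 4, 1, 1, 4, 2, 2, 4, 2], [0, 0, 3, 4, 3, 3, 4, 1, 4, 0, 2, 2, 4, 2], [0, 0, 4, 2, 2, 2, 0, 4, 1, 4, 3, 3, 3, 4], [0, 1], [1, 0], [2, 3], [3, 2], [5, 6], [6, 5]]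
/-- subgroup words -/
def subs : List (List ℕ) := [[0], [2], [4]]
/-- certificate -/
noncomputable def cert : CosetInv.Cert := ⟨29, 12, facts, just, rels, subs, 0xfedcba9875642301⟩
/-- facts along the walk -/
noncomputable def goalPath : ℕ := 0x1c00006000050000400003000020000100000
/-- the word -/
def goal : List ℕ := [5, 0, 4, 5, 5, 4, 0, 6]

end CfsgLib.InvChar.SporHN.E26
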